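import Mathlib

/-!
Homogeneous pieces of a graded algebra generated by finitely many homogeneous elements.
-/

universe u

namespace Groth.Agent.Misc95

variable {R A : Type u} [CommRing R] [CommRing A] [Algebra R A] (𝒜 : ℕ → Submodule R A) [GradedAlgebra 𝒜]
  {s : ℕ} (f : Fin s → A) (deg : Fin s → ℕ)

theorem prod_pow_mem (hf : ∀ i, f i ∈ 𝒜 (deg i)) (e : Fin s → ℕ) :
    ∏ i, f i ^ e i ∈ 𝒜 (∑ i, e i * deg i) := by
  refine SetLike.prod_mem_graded _ _ _ fun i _ => ?_
  simpa [mul_comm] using SetLike.pow_mem_graded (e i) (hf i)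

/-- A homogeneous element is a combination of monomials of its degree. -/
theorem mem_span_monomials (hf : ∀ i, f i ∈ 𝒜 (deg i)) (hgen : Algebra.adjoin R (Set.range f) = ⊤)
    {k : ℕ} {x : A} (hx : x ∈ 𝒜 k) :
    x ∈ Submodule.span R {m | ∃ e : Fin s → ℕ, ∑ i, e i * deg i = k ∧ ∏ i, f i ^ e i = m} := by
  classical
  rw [Algebra.adjoin_range_eq_range_aeval, AlgHom.range_eq_top] at hgen
  obtain ⟨p, hp⟩ := hgen x
  have hk : GradedAlgebra.proj 𝒜 k x = x := by
    rw [GradedAlgebra.proj_apply, DirectSum.decompose_of_mem_same _ hx]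
  rw [← hk, ← hp, p.as_sum, map_sum, map_sum]
  refine sum_mem fun e _ => ?_
  rw [MvPolynomial.aeval_monomial, ← Algebra.smul_def, map_smul,
    Finsupp.prod_fintype _ _ fun i => pow_zero _, GradedAlgebra.proj_apply]
  refine Submodule.smul_mem _ _ ?_
  by_cases h : ∑ i, e i * deg i = k
  · rw [DirectSum.decompose_of_mem_same _ (h ▸ prod_pow_mem 𝒜 f deg hf e)]
    exact Submodule.subset_span ⟨e, h, rfl⟩
  · rw [DirectSum.decompose_of_mem_ne _ (prod_pow_mem 𝒜 f deg hf e) h]
    exact zero_mem _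

theorem degree_add_lcm_eq_mul (hdeg : ∀ i, 0 < deg i) (hf : ∀ i, f i ∈ 𝒜 (deg i))
    (hgen : Algebra.adjoin R (Set.range f) = ⊤) (n : ℕ) (hn : (s - 1) * (Finset.univ.lcm deg - 1) ≤ n) :
    𝒜 (n + Finset.univ.lcm deg) = 𝒜 n * 𝒜 (Finset.univ.lcm deg) := by
  classical
  set m := Finset.univ.lcm deg with hm
  refine le_antisymm (fun x hx => ?_) (Submodule.mul_le.mpr fun a ha b hb => SetLike.mul_mem_graded ha hb)
  refine Submodule.span_le.mpr ?_ (mem_span_monomials 𝒜 f deg hf hgen hx)
  rintro _ ⟨e, he, rfl⟩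
  have hm0 : 0 < m := Nat.pos_of_ne_zero fun h => by
    rw [hm, Finset.lcm_eq_zero_iff] at h; obtain ⟨i, -, hi⟩ := h; exact (hdeg i).ne' hi
  obtain ⟨i, hi⟩ : ∃ i, m ≤ e i * deg i := by
    by_contra h; push Not at h
    have h1 : ∀ i, e i * deg i ≤ m - 1 := fun i => Nat.le_sub_one_of_lt (h i)
    have h2 : n + m ≤ s * (m - 1) := by
      rw [← he]
      simpa using Finset.sum_le_sum (s := Finset.univ) fun i _ => h1 i
    rcases Nat.eq_zero_or_pos s with h0 | h0
    · simp [h0] at h2; omega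
    · have : s * (m - 1) = (s - 1) * (m - 1) + (m - 1) := by
        conv_lhs => rw [← Nat.sub_add_cancel h0, add_mul]
        simp
      omega
  obtain ⟨q, hq⟩ : deg i ∣ m := Finset.dvd_lcm (Finset.mem_univ i)
  have hqi : q ≤ e i := le_of_mul_le_mul_right (by rw [mul_comm q, ← hq]; exact hi) (hdeg i)
  set e' := Function.update e i (e i - q)
  have key : ∏ j, f j ^ e j = (∏ j, f j ^ e' j) * f i ^ q := by
    rw [← Finset.mul_prod_erase _ (fun j => f j ^ e j) (Finset.mem_univ i),
      ← Finset.mul_prod_erase _ (fun j => f j ^ e' j) (Finset.mem_univ i)]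
    rw [Finset.prod_congr rfl fun j hj => show f j ^ e' j = f j ^ e j by
      simp [e', Finset.ne_of_mem_erase hj]]
    simp only [e', Function.update_self]
    rw [mul_comm (f i ^ (e i - q)), mul_assoc, ← pow_add, Nat.sub_add_cancel hqi, mul_comm]
  rw [SetLike.mem_coe, key]
  refine Submodule.mul_mem_mul ?_ (by simpa [hq, mul_comm] using SetLike.pow_mem_graded q (hf i))
  have hd : ∑ j, e' j * deg j = n := by
    have e1 : ∑ j, e j * deg j = e i * deg i + ∑ j ∈ Finset.univ.erase i, e j * deg j :=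
      (Finset.add_sum_erase _ _ (Finset.mem_univ i)).symm
    have e2 : ∑ j, e' j * deg j = (e i - q) * deg i + ∑ j ∈ Finset.univ.erase i, e j * deg j := by
      rw [← Finset.add_sum_erase _ _ (Finset.mem_univ i)]
      simp only [e', Function.update_self]
      congr 1
      exact Finset.sum_congr rfl fun j hj => by simp [Finset.ne_of_mem_erase hj]
    have e3 : (e i - q) * deg i + m = e i * deg i := by
      rw [hq, mul_comm (deg i) q, ← add_mul, Nat.sub_add_cancel hqi]
    omega
  exact hd ▸ prod_pow_mem 𝒜 f deg hf e'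

theorem degree_mul_eq_pow (hdeg : ∀ i, 0 < deg i) (hf : ∀ i, f i ∈ 𝒜 (deg i))
    (hgen : Algebra.adjoin R (Set.range f) = ⊤) (a : ℕ) (ha : s - 1 ≤ a) (k : ℕ) :
    𝒜 (k * (a * Finset.univ.lcm deg)) = 𝒜 (a * Finset.univ.lcm deg) ^ k := by
  classical
  set m := Finset.univ.lcm deg
  have hpow : ∀ (n j : ℕ), (𝒜 n) ^ j ≤ 𝒜 (j * n) := by
    intro n j
    induction j with
    | zero => rw [pow_zero, zero_mul, Submodule.one_eq_span, Submodule.span_le]; simpa using SetLike.one_mem_graded 𝒜
    | succ j ih =>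
      rw [pow_succ, Submodule.mul_le]
      intro x hx y hy
      simpa [add_mul] using SetLike.mul_mem_graded (ih hx) hy
  refine le_antisymm ?_ (hpow _ k)
  induction k with
  | zero =>
    intro x hx
    refine Submodule.span_le.mpr ?_ (mem_span_monomials 𝒜 f deg hf hgen hx)
    rintro _ ⟨e, he, rfl⟩
    simp only [zero_mul, Finset.sum_eq_zero_iff, Finset.mem_univ, true_implies, Nat.mul_eq_zero] at he
    have : ∀ i, e i = 0 := fun i => (he i).resolve_right (hdeg i).ne'
    simp [this, Submodule.one_eq_span, Submodule.mem_span_singleton_self]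
  | succ k ih =>
    rcases Nat.eq_zero_or_pos k with rfl | hk
    · simp
    have hstep : ∀ j n, (s - 1) * (m - 1) ≤ n → 𝒜 (n + j * m) ≤ 𝒜 n * 𝒜 (j * m) := by
      intro j
      induction j with
      | zero => intro n _ x hx; simpa using Submodule.mul_mem_mul (N := 𝒜 0) (by simpa using hx) (SetLike.one_mem_graded 𝒜)
      | succ j ihj =>
        intro n hn
        rw [add_mul, one_mul, ← add_assoc, degree_add_lcm_eq_mul 𝒜 f deg hdeg hf hgen (n + j * m) (hn.trans (Nat.le_add_right _ _))]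
        refine (mul_le_mul' (ihj n hn) le_rfl).trans ?_
        rw [mul_assoc]
        exact mul_le_mul' le_rfl (Submodule.mul_le.mpr fun x hx y hy => SetLike.mul_mem_graded hx hy)
    rw [add_mul, one_mul, pow_succ]
    refine (hstep a _ ?_).trans (mul_le_mul' ih le_rfl)
    calc (s - 1) * (m - 1) ≤ 1 * (a * m) := by
          rw [one_mul]; exact mul_le_mul' ha (Nat.sub_le _ _)
      _ ≤ k * (a * m) := Nat.mul_le_mul_right _ hk

end Groth.Agent.Misc95
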