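import Groth.Prelude.Def_PolLaw
import Mathlib.Algebra.CharP.Lemmas
import Mathlib.Tactic.Ring

/-!
Kernel of the law `x ↦ x ^ p` in characteristic `p`.
-/

universe u

open scoped TensorProduct

namespace Groth.Agent.Misc95

variable {A B : Type u} [CommRing A] [CommRing B] [Algebra A B]

theorem add_pow_char_tensor (p : ℕ) [Fact p.Prime] (hp : (p : A) = 0) (S : Type u) [CommSemiring S] [Algebra A S]
    (x y : S ⊗[A] B) : (x + y) ^ p = x ^ p + y ^ p := by
  obtain ⟨r, hr⟩ := _root_.exists_add_pow_prime_eq (Fact.out : p.Prime) x y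
  have : (p : S ⊗[A] B) = 0 := by rw [← map_natCast (algebraMap A (S ⊗[A] B)), hp, map_zero]
  rw [hr, this]; simp

theorem mem_ker_powLaw_iff (p : ℕ) [Fact p.Prime] (hp : (p : A) = 0) (b : B) :
    b ∈ PolLaw.ker (PolLaw.MulLaw.pow A B p).law ↔ b ^ p = 0 := by
  constructor
  · intro h
    have := h A 0 1
    change (0 + 1 * (1 ⊗ₜ[A] b)) ^ p = (0 : A ⊗[A] B) ^ p at this
    rw [zero_add, one_mul, Algebra.TensorProduct.tmul_pow, one_pow,
      zero_pow (Fact.out : p.Prime).ne_zero] at this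
    have h2 := congrArg (TensorProduct.lid A B) this
    simpa using h2
  · intro h S _ _ x w
    change (x + w * (1 ⊗ₜ[A] b)) ^ p = x ^ p
    rw [add_pow_char_tensor p hp, mul_pow, Algebra.TensorProduct.tmul_pow, h]
    simp

end Groth.Agent.Misc95
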